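import Cfsg.Agent.FM.Eng2
import Cfsg.Agent.FM.T24

set_option autoImplicit false
set_option maxRecDepth 100000
set_option Elab.async false

namespace Cfsg.Agent.FM.C24.K13

open Cfsg.Agent.FM Cfsg.Agent.FM.Mdl Cfsg.Agent.FM.F24

def Xs : List Ex := [(.pow (.w [17, 10]) 2)]
noncomputable def Zs : List ℕ := []
noncomputable def Zsl : List (List ℕ) := []
def As : List Ex := [(.pow (.w [17, 10]) 2)]
def ws : List (List ℕ) := [[0], [0, 0]]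
noncomputable def gens : List Ex := lmap (wd As) ws
def aux : List Ex := []
noncomputable def r0 : List ℕ := (decQ [0x3f5f337a9e3772a36e6836abb33b832b75f285d81fcfe1d8041c89c1bb581b7981b5b41b4c91878313da01249310ccf0a8a509ced09b1a088a80853207ec30629f0404f])
noncomputable def r3 : List ℕ := (decQ [0x3e1393dc993760932d1d29389244cc1d0e31c2f51b79819f5e155040eeac0daba])

theorem k1 : cd.rej ⟨[31721, 90675, 23220, 100651], Xs, Zs⟩ ⟨[31721, 90675, 23220, 100651], Xs, Zs⟩ [] 99 (.comm .var (.app 0 .var) true (.comm (.app 0 .var) (.appI 0 .var) true (.eq .var (.app 0 .var) false (.comm (.appI 0 .var) (.app 0 (.app 0 .var)) true .tt)))) r0 = true := by decide +kernel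
theorem k2 : cd.lvl [31721, 90675, 23220, 100651] Xs Zs [(.tr (.pt 2) (.pt 3))] (.and (.and (.adj 1) (.adj 2)) (.adj 0)) 99 [r0] (sel gens [0, 1]) [0, 1, 1, 1, 1, 1, 0] (.stk (decR [0x108421084210842])) 13 = true := by decide +kernel
theorem k4 : cd.rej ⟨[99, 31721, 90675, 23220, 100651], Xs, Zs⟩ ⟨[99, 31721, 90675, 23220, 100651], Xs, Zs⟩ [] 701 (.comm (.pt 0) .var false (.comm (.pt 2) .var false (.comm (.app 0 .var) (.appI 0 .var) true (.comm .var (.app 0 .var) true .tt)))) r3 = true := by decide +kernel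
theorem k5 : cd.lvl [99, 31721, 90675, 23220, 100651] Xs Zs [(.app 0 (.pt 0)), (.app 0 (.app 0 (.app 0 (.app 0 (.app 0 (.pt 1)))))), (.app 0 (.app 0 (.pt 2))), (.tr (.pt 6) (.pt 7)), (.app 0 (.app 0 (.app 0 (.pt 4))))] (.dif (.dif (.and (.and (.and (.and (.and (.adj 6) (.adj 4)) (.adj 3)) (.adj 2)) (.adj 1)) (.adj 0)) (.one 6)) (.one 2)) 701 [r3] (sel gens []) [] (.stk []) 1 = true := by decide +kernel
theorem k6 : (cd.ltL [701, 99, 31721, 90675, 23220, 100651] && subL cd.bs (cd.ext ⟨[701, 99, 31721, 90675, 23220, 100651], Xs, Zs⟩ [(.tr (.tr (.pt 0) (.pt 3)) (.tr (.tr (.pt 1) (.pt 4)) (.tr (.app 0 (.app 0 (.pt 0))) (.tr (.appI 0 (.appI 0 (.pt 0))) (.tr (.appI 0 (.pt 0)) (.pt 4)))))), (.tr (.pt 4) (.tr (.tr (.pt 1) (.pt 5)) (.tr (.tr (.pt 2) (.pt 5)) (.tr (.appI 0 (.pt 1)) (.tr (.appI 0 (.pt 2)) (.pt 6)))))), (.tr (.tr (.pt 2) (.pt 5)) (.tr (.appI 0 (.pt 3))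 (.tr (.app 0 (.app 0 (.pt 2))) (.tr (.tr (.pt 4) (.pt 5)) (.tr (.app 0 (.pt 2)) (.tr (.appI 0 (.appI 0 (.pt 3))) (.pt 2))))))), (.tr (.tr (.pt 3) (.pt 6)) (.tr (.app 0 (.pt 4)) (.tr (.tr (.pt 4) (.pt 7)) (.tr (.appI 0 (.appI 0 (.pt 4))) (.tr (.tr (.pt 3) (.pt 8)) (.pt 4)))))), (.tr (.tr (.pt 4) (.pt 9)) (.tr (.tr (.pt 4) (.pt 5)) (.tr (.tr (.pt 4) (.pt 8)) (.tr (.app 0 (.pt 5)) (.tr (.app 0 (.app 0 (.pt 4))) (.pt 5))))))])) = true := by decide +kernel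
theorem k7 : cd.memCS Xs Zs Zsl As = true := by decide +kernel
theorem k8 : cd.memCS Xs Zs Zsl aux = true := by decide +kernel

theorem gens_CS {G : Type*} [Group G] {D : Set G} (M : Mdl G D cd) : ∀ a ∈ As, M.ev a ∈ M.CS Xs Zs :=
  memCS_spec k7

theorem aux_CS {G : Type*} [Group G] {D : Set G} (M : Mdl G D cd) : ∀ a ∈ aux, M.ev a ∈ M.CS Xs Zs :=
  memCS_spec k8

theorem res {G : Type*} [Group G] {D : Set G} (M : Mdl G D cd) {K : Subgroup G} (hK : ∀ a ∈ As, M.ev a ∈ K) :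
    Res (M.CS Xs Zs ⊓ M.FixL [31721, 90675, 23220, 100651]) K 13 := by
  have h := stab_CS (M := M) Xs Zs
  have hG := wd_mem (mem_inf_of (gens_CS M) hK) ws
  refine Res.cast (N := (13 * (1 * 1))) ?_ rfl
  exact lvl_step h (sel_mem hG _) k2
    (NoMaps.rej k1 NoMaps.nil) <|
  lvl_step h (sel_mem hG _) k5
    (NoMaps.rej k4 NoMaps.nil) <|
  base h [(.tr (.tr (.pt 0) (.pt 3)) (.tr (.tr (.pt 1) (.pt 4)) (.tr (.app 0 (.app 0 (.pt 0))) (.tr (.appI 0 (.appI 0 (.pt 0))) (.tr (.appI 0 (.pt 0)) (.pt 4)))))), (.tr (.pt 4) (.tr (.tr (.pt 1) (.pt 5)) (.tr (.tr (.pt 2) (.pt 5)) (.tr (.appI 0 (.pt 1)) (.tr (.appI 0 (.pt 2)) (.pt 6)))))), (.tr (.tr (.pt 2) (.pt 5)) (.tr (.appI 0 (.pt 3)) (.tr (.app 0 (.app 0 (.pt 2))) (.tr (.tr (.pt 4) (.pt 5)) (.tr (.app 0 (.pt 2)) (.tr (.appI 0 (.appI 0 (.pt 3))) (.pt 2))))))), (.tr (.tr (.pt 3) (.pt 6)) (.tr (.app 0 (.pt 4)) (.tr (.tr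 (.pt 4) (.pt 7)) (.tr (.appI 0 (.appI 0 (.pt 4))) (.tr (.tr (.pt 3) (.pt 8)) (.pt 4)))))), (.tr (.tr (.pt 4) (.pt 9)) (.tr (.tr (.pt 4) (.pt 5)) (.tr (.tr (.pt 4) (.pt 8)) (.tr (.app 0 (.pt 5)) (.tr (.app 0 (.app 0 (.pt 4))) (.pt 5))))))] (List.cons_ne_nil _ _) k6

theorem card {G : Type*} [Group G] {D : Set G} (M : Mdl G D cd) : Nat.card ↥(M.CS Xs Zs ⊓ M.FixL [31721, 90675, 23220, 100651]) = 13 :=
  (res M (K := ⊤) fun _ _ => trivial).2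

end Cfsg.Agent.FM.C24.K13
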