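import Cfsg.Agent.FM.Eng2
import Cfsg.Agent.FM.T24

set_option autoImplicit false
set_option maxRecDepth 100000
set_option Elab.async false

namespace Cfsg.Agent.FM.C24.Y7

open Cfsg.Agent.FM Cfsg.Agent.FM.Mdl Cfsg.Agent.FM.F24

def Xs : List Ex := [(.ps [1, 1176, 4869, 6737])]
noncomputable def Zs : List ℕ := []
noncomputable def Zsl : List (List ℕ) := []
def As : List Ex := [(.ps [1, 1176, 4869, 6737]), (.ps [0]), (.ps [697]), (.ps [3]), (.ps [700]), (.ps [708]), (.ps [31672]), (.ps [31674]), (.ps [9]), (.ps [5219]), (.ps [36143])]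
def ws : List (List ℕ) := [[1], [2], [5], [3], [6], [4], [9], [10], [7], [8], [5, 3, 5], [7, 6, 7], [5, 8, 5], [7, 2, 10, 7, 2, 1, 10, 1, 5, 8, 3, 5, 7, 3, 10, 1, 3, 10, 7, 3, 4, 3, 5, 7, 9, 5, 6, 4, 9, 5, 0, 0, 0, 0, 6, 10, 2, 3, 1, 9, 10, 3, 2], [10, 3, 5, 3, 10], [4, 10, 5, 8, 5, 4, 10], [1, 4, 5, 8, 1, 3, 5, 1, 5, 8, 5, 4, 1]]
noncomputable def gens : List Ex := lmap (wd As) ws
def aux : List Ex := []
noncomputable def r3 : List ℕ := (decQ [0x36124206241a05716be5168bf14aae14365138d711d930befc0b6cb002e000018])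

theorem k0 : cd.rej ⟨[], Xs, Zs⟩ ⟨[], Xs, Zs⟩ [] 722 (.eq (.appI 0 .var) (.tr .var (.app 0 .var)) false .tt) [1, 221475] = true := by decide +kernel
theorem k1 : cd.rej ⟨[], Xs, Zs⟩ ⟨[], Xs, Zs⟩ [] 722 (.comm .var (.app 0 .var) false .tt) [0, 900] = true := by decide +kernel
theorem k2 : cd.lvl [] Xs Zs [] .all 722 [[1, 221475], [0, 900]] (sel gens [0, 1, 2, 3, 4, 5, 6, 7, 8, 9]) (decR [0x82305030904138d220a0c120c41398a120c41]) (.simd (decR [0x104138c412186209d220a0612186209c2a28482])) 183708 = true := by decide +kernel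
theorem k4 : cd.rej ⟨[722], Xs, Zs⟩ ⟨[722], Xs, Zs⟩ [] 69512 (.comm .var (.app 0 .var) true .tt) r3 = true := by decide +kernel
theorem k5 : cd.lvl [722] Xs Zs [(.appI 0 (.pt 0)), (.tr (.pt 1) (.app 0 (.pt 1))), (.tr (.app 0 (.pt 2)) (.appI 0 (.pt 2)))] (.dif (.dif (.dif (.adj 2) (.adj 3)) (.adj 1)) (.adj 0)) 69512 [r3] (sel gens [0, 7, 5, 10, 11, 12, 13]) (decR [0x1ce11046628482184c228482184c11142418441]) (.simd (decR [0x82520c4509824088a309822090613044508861])) 6480 = true := by decide +kernel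
theorem k6 : cd.rej ⟨[69512, 722], Xs, Zs⟩ ⟨[69512, 722], Xs, Zs⟩ [] 14833 (.comm (.tr (.tr (.pt 0) (.pt 1)) (.app 0 (.pt 1))) (.tr (.appI 0 (.tr (.pt 0) (.pt 1))) .var) false .tt) [66934, 68004, 68014, 151340, 193333, 200574] = true := by decide +kernel
theorem k7 : cd.lvl [69512, 722] Xs Zs [(.tr (.pt 1) (.app 0 (.pt 1))), (.tr (.pt 1) (.pt 2)), (.appI 0 (.pt 2)), (.app 0 (.pt 3))] (.dif (.and (.and (.and (.adj 3) (.adj 2)) (.adj 1)) (.adj 0)) (.adj 5)) 14833 [[66934, 68004, 68014, 151340, 193333, 200574]] (sel gens [14, 15, 16, 13]) [] (.stk (decR [0x10c4410c4508443088810886111421088611102110c22])) 24 = true := by decide +kernel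
theorem k8 : (cd.ltL [14833, 69512, 722] && subL cd.bs (cd.ext ⟨[14833, 69512, 722], Xs, Zs⟩ [(.tr (.tr (.pt 2) (.appI 0 (.pt 1))) (.tr (.appI 0 (.pt 2)) (.tr (.pt 2) (.tr (.app 0 (.tr (.pt 1) (.pt 2))) (.pt 1))))), (.tr (.appI 0 (.pt 3)) (.tr (.app 0 (.pt 3)) (.tr (.tr (.pt 1) (.pt 2)) (.tr (.appI 0 (.tr (.pt 2) (.pt 3))) (.tr (.app 0 (.pt 3)) (.appI 0 (.pt 1))))))), (.tr (.pt 4) (.tr (.tr (.pt 3) (.app 0 (.pt 4))) (.tr (.app 0 (.tr (.pt 3) (.pt 4))) (.tr (.appI 0 (.tr (.pt 2) (.pt 4))) (.tr (.app 0 (.tr (.pt 2) (.pt 3))) (.tr (.appI 0 (.pt 4)) (.pt 2))))))), (.tr (.tr (.pt 3) (.pt 5)) (.tr (.appI 0 (.pt 3)) (.tr (.pt 5) (.tr (.tr (.pt 4) (.app 0 (.pt 5))) (.tr (.app 0 (.tr (.pt 4) (.pt 5))) (.appI 0 (.tr (.pt 3) (.pt 4)))))))), (.tr (.app 0 (.pt 5)) (.tr (.appI 0 (.pt 6)) (.tr (.tr (.pt 5) (.app 0 (.pt 6))) (.tr (.appI 0 (.tr (.pt 4) (.pt 5)))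 (.tr (.app 0 (.tr (.pt 4) (.pt 6))) (.tr (.pt 4) (.pt 5)))))))])) = true := by decide +kernel
theorem k9 : cd.memCS Xs Zs Zsl As = true := by decide +kernel
theorem k10 : cd.memCS Xs Zs Zsl aux = true := by decide +kernel

theorem gens_CS {G : Type*} [Group G] {D : Set G} (M : Mdl G D cd) : ∀ a ∈ As, M.ev a ∈ M.CS Xs Zs :=
  memCS_spec k9

theorem aux_CS {G : Type*} [Group G] {D : Set G} (M : Mdl G D cd) : ∀ a ∈ aux, M.ev a ∈ M.CS Xs Zs :=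
  memCS_spec k10

theorem res {G : Type*} [Group G] {D : Set G} (M : Mdl G D cd) {K : Subgroup G} (hK : ∀ a ∈ As, M.ev a ∈ K) :
    Res (M.CS Xs Zs ⊓ M.FixL []) K 28570268160 := by
  have h := stab_CS (M := M) Xs Zs
  have hG := wd_mem (mem_inf_of (gens_CS M) hK) ws
  refine Res.cast (N := (183708 * (6480 * (24 * 1)))) ?_ rfl
  exact lvl_step h (sel_mem hG _) k2
    (NoMaps.rej k0 (NoMaps.rej k1 NoMaps.nil)) <|
  lvl_step h (sel_mem hG _) k5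
    (NoMaps.rej k4 NoMaps.nil) <|
  lvl_step h (sel_mem hG _) k7
    (NoMaps.rej k6 NoMaps.nil) <|
  base h [(.tr (.tr (.pt 2) (.appI 0 (.pt 1))) (.tr (.appI 0 (.pt 2)) (.tr (.pt 2) (.tr (.app 0 (.tr (.pt 1) (.pt 2))) (.pt 1))))), (.tr (.appI 0 (.pt 3)) (.tr (.app 0 (.pt 3)) (.tr (.tr (.pt 1) (.pt 2)) (.tr (.appI 0 (.tr (.pt 2) (.pt 3))) (.tr (.app 0 (.pt 3)) (.appI 0 (.pt 1))))))), (.tr (.pt 4) (.tr (.tr (.pt 3) (.app 0 (.pt 4))) (.tr (.app 0 (.tr (.pt 3) (.pt 4))) (.tr (.appI 0 (.tr (.pt 2) (.pt 4))) (.tr (.app 0 (.tr (.pt 2) (.pt 3))) (.tr (.appI 0 (.pt 4)) (.pt 2))))))), (.tr (.tr (.pt 3) (.pt 5)) (.tr (.appI 0 (.pt 3)) (.tr (.pt 5) (.tr (.tr (.pt 4) (.app 0 (.pt 5))) (.tr (.app 0 (.tr (.pt 4) (.pt 5))) (.appI 0 (.tr (.pt 3) (.pt 4)))))))), (.tr (.app 0 (.pt 5)) (.tr (.appI 0 (.pt 6)) (.tr (.tr (.pt 5) (.app 0 (.pt 6))) (.tr (.appI 0 (.tr (.pt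 4) (.pt 5))) (.tr (.app 0 (.tr (.pt 4) (.pt 6))) (.tr (.pt 4) (.pt 5)))))))] (List.cons_ne_nil _ _) k8

theorem card {G : Type*} [Group G] {D : Set G} (M : Mdl G D cd) : Nat.card ↥(M.CS Xs Zs ⊓ M.FixL []) = 28570268160 :=
  (res M (K := ⊤) fun _ _ => trivial).2

end Cfsg.Agent.FM.C24.Y7
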