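import Cfsg.Agent.FM.Eng2
import Cfsg.Agent.FM.T24

set_option autoImplicit false
set_option maxRecDepth 100000
set_option Elab.async false

namespace Cfsg.Agent.FM.C24.Z4N

open Cfsg.Agent.FM Cfsg.Agent.FM.Mdl Cfsg.Agent.FM.F24

def Xs : List Ex := []
noncomputable def Zs : List ℕ := [ofL [85041, 85186, 85223, 85228], ofL [147527, 147928, 147931, 147937], ofL [85052, 85054, 85245, 85246], ofL [167932, 167934, 168094, 168095], ofL [64486, 67340, 85049, 85055]]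
noncomputable def Zsl : List (List ℕ) := [[85041, 85186, 85223, 85228], [147527, 147928, 147931, 147937], [85052, 85054, 85245, 85246], [167932, 167934, 168094, 168095], [64486, 67340, 85049, 85055]]
def As : List Ex := [(.ps [0, 693]), (.ps [0, 31671]), (.ps [73670, 73858]), (.ps [34, 188]), (.ps [34, 628]), (.ps [680, 18]), (.ps [10, 105]), (.ps [85225, 85227]), (.ps [98331, 98495]), (.ps [73836, 98339]), (.ps [167516, 167987]), (.ps [155995, 181697]), (.ps [31671, 3510, 693, 0]), (.ps [7489, 6312, 3529, 3534])]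
def ws : List (List ℕ) := [[1], [0], [3], [4], [11, 9], [3, 1, 9], [7], [4, 5, 9], [3, 1, 6, 10], [9, 11, 5, 6, 0], [12], [0, 7, 2], [3, 6, 5, 8], [5, 13, 6, 10]]
noncomputable def gens : List Ex := lmap (wd As) ws
def aux : List Ex := []
noncomputable def r5 : List ℕ := (decQ [0x48ef348c6d4756c463f242300400173fd983f7e53ef0a3e83e3dac938fcc37b1836272307132dc6c2c1aa29b3127a1c24b11226992249921eb4214b220b77203651fd811faf91f1161eb591eaa51a1b719af21925a1859214ee51462b10fe80f5bd0ebcb0e3500cb070c6ca0c64f0bcfb0b75e0ae900ae7f09ff2096a60949d07dff04adc026d30217a01f1c01ef30180001780013000126700fe7])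
noncomputable def r9 : List ℕ := (decQ [0x457fb400fd3b1c23683331b78300912fcec28cad255ae2031a1b83714cdd14b42114380e81d0bb8108881075cf06d7f06ce506a3003c8c002550019f00095])

theorem k0 : cd.lvl [] Xs Zs [] (.env 0) 85041 [] (sel gens [0, 1]) [] (.stk (decR [0x308462])) 4 = true := by decide +kernel
theorem k1 : cd.lvl [85041] Xs Zs [] (.env 1) 147527 [] (sel gens [2, 3]) [] (.stk (decR [0x308462])) 4 = true := by decide +kernel
theorem k2 : cd.lvl [147527, 85041] Xs Zs [] (.env 2) 85052 [] (sel gens [4, 5]) [] (.stk (decR [0x10c22])) 4 = true := by decide +kernel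
theorem k3 : cd.lvl [85052, 147527, 85041] Xs Zs [] (.env 3) 167932 [] (sel gens [6, 7]) [] (.stk (decR [0x10c22])) 4 = true := by decide +kernel
theorem k4 : cd.lvl [167932, 85052, 147527, 85041] Xs Zs [] (.env 4) 64486 [] (sel gens [8, 9]) [] (.stk (decR [0x10c22])) 4 = true := by decide +kernel
theorem k6 : cd.rej ⟨[64486, 167932, 85052, 147527, 85041], Xs, Zs⟩ ⟨[64486, 167932, 85052, 147527, 85041], Xs, Zs⟩ [] 892 (.cx [.var] (.and (.adj 0) (.env 0)) 2 .tt) r5 = true := by decide +kernel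
theorem k7 : cd.lvl [64486, 167932, 85052, 147527, 85041] Xs Zs [(.tr (.pt 2) (.tr (.pt 0) (.pt 1))), (.tr (.pt 5) (.tr (.pt 3) (.pt 4))), (.tr (.tr (.pt 3) (.pt 4)) (.tr (.pt 5) (.pt 6)))] (.dif (.dif (.dif (.dif (.dif (.dif (.and (.adj 6) (.adj 2)) (.adj 3)) (.adj 5)) (.adj 7)) (.adj 4)) (.adj 1)) (.adj 0)) 892 [r5] (sel gens [10, 11, 12, 13]) [0, 1, 2, 3, 3] (.stk (decR [0x43088810842108421084210844311022188a110c222086228862])) 24 = true := by decide +kernel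
theorem k8 : cd.rej ⟨[892, 64486, 167932, 85052, 147527, 85041], Xs, Zs⟩ ⟨[892, 64486, 167932, 85052, 147527, 85041], Xs, Zs⟩ [] 585 (.cx [.var] (.and (.adj 0) (.env 0)) 4 .tt) [15471, 114499] = true := by decide +kernel
theorem k10 : cd.rej ⟨[892, 64486, 167932, 85052, 147527, 85041], Xs, Zs⟩ ⟨[892, 64486, 167932, 85052, 147527, 85041], Xs, Zs⟩ [] 585 (.comm (.tr (.pt 0) (.pt 5)) (.tr (.tr (.pt 1) (.tr (.pt 0) (.pt 2))) .var) true (.eq .var (.tr (.pt 1) (.pt 2)) false .tt)) r9 = true := by decide +kernel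
theorem k11 : cd.lvl [892, 64486, 167932, 85052, 147527, 85041] Xs Zs [(.tr (.pt 0) (.pt 3)), (.tr (.pt 2) (.pt 3))] (.and (.and (.and (.adj 6) (.adj 7)) (.adj 1)) (.adj 0)) 585 [[15471, 114499], r9] (sel gens []) [] (.stk []) 1 = true := by decide +kernel
theorem k12 : (cd.ltL [585, 892, 64486, 167932, 85052, 147527, 85041] && subL cd.bs (cd.ext ⟨[585, 892, 64486, 167932, 85052, 147527, 85041], Xs, Zs⟩ [(.tr (.tr (.pt 1) (.pt 4)) (.tr (.tr (.pt 5) (.pt 6)) (.tr (.tr (.pt 0) (.pt 4)) (.tr (.tr (.pt 2) (.pt 3)) (.pt 1))))), (.tr (.tr (.pt 6) (.pt 7)) (.tr (.tr (.pt 3) (.tr (.pt 1) (.pt 2))) (.tr (.tr (.pt 2) (.pt 7)) (.tr (.tr (.pt 1) (.pt 5)) (.tr (.tr (.pt 1) (.pt 4)) (.tr (.tr (.pt 2) (.pt 5)) (.pt 3))))))), (.tr (.tr (.pt 6) (.pt 7)) (.tr (.tr (.pt 4) (.pt 5)) (.tr (.tr (.pt 2) (.pt 3)) (.tr (.tr (.pt 3) (.pt 5)) (.tr (.tr (.pt 6) (.pt 7)) (.tr (.tr (.pt 3) (.pt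 8)) (.tr (.tr (.pt 2) (.pt 5)) (.pt 6)))))))), (.tr (.tr (.pt 5) (.tr (.pt 3) (.pt 4))) (.tr (.tr (.pt 4) (.pt 9)) (.tr (.tr (.pt 3) (.pt 5)) (.tr (.tr (.pt 7) (.pt 8)) (.tr (.tr (.pt 4) (.pt 6)) (.tr (.tr (.pt 4) (.pt 7)) (.tr (.tr (.pt 8) (.pt 9)) (.tr (.pt 4) (.pt 5))))))))), (.tr (.tr (.pt 6) (.tr (.pt 4) (.pt 5))) (.tr (.tr (.pt 4) (.pt 8)) (.tr (.tr (.pt 7) (.pt 8)) (.tr (.tr (.pt 5) (.pt 7)) (.tr (.tr (.pt 9) (.pt 10)) (.tr (.tr (.pt 7) (.pt 8)) (.tr (.tr (.pt 5) (.pt 10)) (.pt 4))))))))])) = true := by decide +kernel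
theorem k13 : cd.memCS Xs Zs Zsl As = true := by decide +kernel
theorem k14 : cd.memCS Xs Zs Zsl aux = true := by decide +kernel

theorem gens_CS {G : Type*} [Group G] {D : Set G} (M : Mdl G D cd) : ∀ a ∈ As, M.ev a ∈ M.CS Xs Zs :=
  memCS_spec k13

theorem aux_CS {G : Type*} [Group G] {D : Set G} (M : Mdl G D cd) : ∀ a ∈ aux, M.ev a ∈ M.CS Xs Zs :=
  memCS_spec k14

theorem res {G : Type*} [Group G] {D : Set G} (M : Mdl G D cd) {K : Subgroup G} (hK : ∀ a ∈ As, M.ev a ∈ K) :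
    Res (M.CS Xs Zs ⊓ M.FixL []) K 24576 := by
  have h := stab_CS (M := M) Xs Zs
  have hG := wd_mem (mem_inf_of (gens_CS M) hK) ws
  refine Res.cast (N := (4 * (4 * (4 * (4 * (4 * (24 * (1 * 1)))))))) ?_ rfl
  exact lvl_step h (sel_mem hG _) k0
    NoMaps.nil <|
  lvl_step h (sel_mem hG _) k1
    NoMaps.nil <|
  lvl_step h (sel_mem hG _) k2
    NoMaps.nil <|
  lvl_step h (sel_mem hG _) k3
    NoMaps.nil <|
  lvl_step h (sel_mem hG _) k4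
    NoMaps.nil <|
  lvl_step h (sel_mem hG _) k7
    (NoMaps.rej k6 NoMaps.nil) <|
  lvl_step h (sel_mem hG _) k11
    (NoMaps.rej k8 (NoMaps.rej k10 NoMaps.nil)) <|
  base h [(.tr (.tr (.pt 1) (.pt 4)) (.tr (.tr (.pt 5) (.pt 6)) (.tr (.tr (.pt 0) (.pt 4)) (.tr (.tr (.pt 2) (.pt 3)) (.pt 1))))), (.tr (.tr (.pt 6) (.pt 7)) (.tr (.tr (.pt 3) (.tr (.pt 1) (.pt 2))) (.tr (.tr (.pt 2) (.pt 7)) (.tr (.tr (.pt 1) (.pt 5)) (.tr (.tr (.pt 1) (.pt 4)) (.tr (.tr (.pt 2) (.pt 5)) (.pt 3))))))), (.tr (.tr (.pt 6) (.pt 7)) (.tr (.tr (.pt 4) (.pt 5)) (.tr (.tr (.pt 2) (.pt 3)) (.tr (.tr (.pt 3) (.pt 5)) (.tr (.tr (.pt 6) (.pt 7)) (.tr (.tr (.pt 3) (.pt 8)) (.tr (.tr (.pt 2) (.pt 5)) (.pt 6)))))))), (.tr (.tr (.pt 5) (.tr (.pt 3) (.pt 4))) (.tr (.tr (.pt 4) (.pt 9)) (.tr (.tr (.pt 3) (.pt 5)) (.tr (.tr (.pt 7) (.pt 8)) (.tr (.tr (.pt 4) (.pt 6)) (.tr (.tr (.pt 4) (.pt 7)) (.tr (.tr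 (.pt 8) (.pt 9)) (.tr (.pt 4) (.pt 5))))))))), (.tr (.tr (.pt 6) (.tr (.pt 4) (.pt 5))) (.tr (.tr (.pt 4) (.pt 8)) (.tr (.tr (.pt 7) (.pt 8)) (.tr (.tr (.pt 5) (.pt 7)) (.tr (.tr (.pt 9) (.pt 10)) (.tr (.tr (.pt 7) (.pt 8)) (.tr (.tr (.pt 5) (.pt 10)) (.pt 4))))))))] (List.cons_ne_nil _ _) k12

theorem card {G : Type*} [Group G] {D : Set G} (M : Mdl G D cd) : Nat.card ↥(M.CS Xs Zs ⊓ M.FixL []) = 24576 :=
  (res M (K := ⊤) fun _ _ => trivial).2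

end Cfsg.Agent.FM.C24.Z4N
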